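import Cfsg.Agent.H461.T5S.Words
import Cfsg.Agent.H461.T5.Ru

/-!
# The certificate of strong pairs of elements of order 5 for the Rudvalis group (helper461)

The letters 0, 1, 2 are the words `wa`, `wb`, `wc`; the words of the conjugating elements were found by computer.
-/

set_option autoImplicit false
set_option maxRecDepth 100000

namespace Cfsg.Agent.H461.T5S.Ru

open Cfsg Cfsg.Agent.H461.T5 Cfsg.Agent.H461.T5S
open Cfsg.Agent.Lib Cfsg.Agent.SporadicB Cfsg.Agent.SporadicB.RuOrder Cfsg.Agent.RuD.Letters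
open Cfsg.Agent.SporRec.TCUpperCert Cfsg.Agent.CpAutRuFive
open Cfsg.Agent.KFacts.Ru Cfsg.Agent.KFacts.Ru.CentEng

/-- the words of the letters -/
def lw : ℕ → List ℕ
  | 0 => H461.T5.Ru.wa
  | 1 => H461.T5.Ru.wb
  | 2 => H461.T5.Ru.wc
  | 3 => [3, 5, 3, 6, 8, 0, 7, 5, 7, 6, 7, 5]
  | 4 => [2, 6, 3, 5, 1, 7, 5, 3, 2, 1, 3, 5, 7]
  | 5 => [6, 7, 5, 8, 0, 4, 3, 5, 3, 4, 0, 5, 7]
  | 6 => [0, 3, 5, 3, 5, 8, 1, 7, 5, 7, 6]
  | 7 => [2, 4, 3, 1, 2, 7, 5, 1, 7, 1, 3, 4, 1, 0]
  | 8 => [6, 3, 5, 3, 6, 5, 8, 7, 5, 7, 1]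
  | 9 => [0, 1]
  | 10 => [1, 7, 7]
  | _ => [8, 5, 7, 1, 3, 1, 1, 7, 7, 0, 3, 1, 4, 0, 5, 7, 5, 7, 4, 5, 7, 6, 7, 5, 1, 3, 5, 0, 7, 8, 1, 3, 5, 7, 4, 5, 1, 7, 0, 5, 0, 3, 3, 6]

/-- the data -/
def D : CD where
  k := 2
  rp := fun
    | 0 => 0
    | _ => 3
  cl := fun
    | 0 => 0
    | 1 => 0
    | 2 => 0
    | _ => 1
  hw := fun
    | 1 => [3]
    | 2 => [4]
    | 4 => [5]
    | 5 => [6]
    | 6 => [7]
    | _ => []
  kw := fun
    | 0 => [8]
    | 1 => [9]
    | _ => []
  gw := fun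
    | 0, 1 => [10]
    | _, _ => []
  zw := fun
    | 0, 1 => [11]
    | _, _ => []
  nn := fun
    | 0, 1 => 7
    | _, _ => 1
  mm := fun
    | 0, 1 => 6
    | _, _ => 1

/-- the expanded word -/
def ex (w : List ℕ) : List ℕ := w.flatMap lw

theorem ev_lw (w : List ℕ) : ev (fun i => (wprod ml (lw i) : RuOrder.H)) w = wprod ml (ex w) := by
  induction w with
  | nil => rfl
  | cons i w ih =>
    have h1 : ev (fun i => (wprod ml (lw i) : RuOrder.H)) (i :: w) =
        wprod ml (lw i) * ev (fun i => (wprod ml (lw i) : RuOrder.H)) w := by simp [ev]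
    rw [h1, ih, ex, ex, List.flatMap_cons, wprod_append]

/-- the check of the equation `i` -/
noncomputable def chkE (i : ℕ) : Bool := chkEq (ex (D.eqs.getD i ([], [])).1) (ex (D.eqs.getD i ([], [])).2)

theorem hnum : D.num = true := by decide +kernel
theorem hlen : D.eqs.length = 18 := by decide +kernel
set_option maxHeartbeats 2000000 in
theorem hE : ∀ i < 18, chkE i = true := by
  intro i hi
  interval_cases i
  · decide +kernel
  · decide +kernel
  · decide +kernel
  · decide +kernel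
  · decide +kernel
  · decide +kernel
  · decide +kernel
  · decide +kernel
  · decide +kernel
  · decide +kernel
  · decide +kernel
  · decide +kernel
  · decide +kernel
  · decide +kernel
  · decide +kernel
  · decide +kernel
  · decide +kernel
  · decide +kernel

/-- the check of the inequations -/
noncomputable def chkN : Bool := D.nes.all fun w => !Nat.beq (evalK (ex w) 1) 1

theorem hN : chkN = true := by decide +kernel

/-- **the certificate** -/
theorem cert : Cert RuOrder.H := by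
  refine cert_of D hnum (fun i => (wprod ml (lw i) : RuOrder.H)) (fun q hq => ?_) (fun w hw h => ?_)
  · obtain ⟨i, hi, rfl⟩ := List.mem_iff_getElem.1 hq
    have h1 := hE i (by rw [← hlen]; exact hi)
    rw [chkE, List.getD_eq_getElem?_getD, List.getElem?_eq_getElem hi, Option.getD_some] at h1
    rw [ev_lw, ev_lw]
    exact eq_of_chkEq h1
  · have h1 := List.all_eq_true.1 hN w hw
    rw [ev_lw] at h
    have h2 := evalK_eq (ex w) ⟨1, by norm_num⟩
    rw [h] at h2
    simp only [Bool.not_eq_true'] at h1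
    exact Nat.ne_of_beq_eq_false h1 h2.symm

end Cfsg.Agent.H461.T5S.Ru
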