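import Cfsg.Agent.H461.T5S.McL
import Cfsg.Agent.H461.T5S.HS
import Cfsg.Agent.H461.T5S.Ru
import Cfsg.Agent.H461.T5.SpA
import Cfsg.Agent.H752.TFiveCo

/-!
# The strong rows `(HS, 5)`, `(McL, 5)`, `(Ru, 5)`, `(Co3, 5)`, `(Co2, 5)` (helper461)

`SRows.hs`, `mcl`, `ru`, `co3`, `co2` : `IsoHS K → SBox 5 → SRow 5 K` etc.
-/

set_option autoImplicit false

namespace Cfsg.Agent.H461.T5S.SRows

open Subgroup Cfsg Cfsg.Agent.H533.T5 Cfsg.Agent.H461.T5 Cfsg.Agent.H461.T5S Cfsg.Agent.H132.S5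

universe u

theorem not_comm {K : Type*} [Group K] [Finite K] [IsSimpleGroup K] (h : ¬ (Nat.card K).Prime) : ¬ IsMulCommutative K :=
  H752.TFiveCo.not_comm_of_card h

/-- a row from the certificate and the automorphisms of order 5 -/
theorem srow_of_cert {K : Type u} [Group K] [Finite K] [IsSimpleGroup K] (hc : ¬ (Nat.card K).Prime)
    (h4 : ¬ 5 ^ 4 ∣ Nat.card K) (B : SBox.{u} 5)
    (hinn : ∀ a : MulAut K, orderOf a = 5 → a ∈ (MulAut.conj : K →* MulAut K).range) (h : Cert K) : SRow 5 K :=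
  SRow.of_inner (not_comm hc) hinn fun _ _ hx hy => spair_of_cert (not_comm hc) B h4 h hx hy

theorem inn_of_odd {K : Type*} [Group K] (hinn : Cfsg.Agent.BpSpor.Inn.OddInn K) (a : MulAut K) (ha : orderOf a = 5) :
    a ∈ (MulAut.conj : K →* MulAut K).range := by
  obtain ⟨g, rfl⟩ := hinn 5 (by norm_num) (by norm_num) a ha
  exact ⟨g, rfl⟩

theorem hs (K : Type u) [Group K] [Finite K] [IsSimpleGroup K] (h : Spor.IsoHS K) (B : SBox.{u} 5) : SRow 5 K := by
  have hc : Nat.card K = 44352000 := (Cfsg.Agent.BpSpor.Row.dat_hs h).card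
  have hinn := (Cfsg.Agent.BpSpor.Row.dat_hs h).inn
  obtain ⟨e⟩ := h
  exact srow_of_cert (by rw [hc]; norm_num) (by rw [hc]; norm_num) B (inn_of_odd hinn)
    ((HS.cert Spor.HS (fun _ h => h.1.1) (fun _ h => h)).congr e.symm)

theorem mcl (K : Type u) [Group K] [Finite K] [IsSimpleGroup K] (h : Spor.IsoMcL K) (B : SBox.{u} 5) : SRow 5 K := by
  obtain ⟨e⟩ := h
  have hc' : Nat.card Spor.McL = 898128000 := Cfsg.Agent.H573.Spor.card_McL
  have hc : Nat.card K = 898128000 := by rw [Nat.card_congr e.toEquiv, hc']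
  have hinn : Cfsg.Agent.BpSpor.Inn.OddInn K := Cfsg.Agent.BpSpor.Inn.OddInn.congr e
    (Cfsg.Agent.BpSpor.Inn.of_pow fun α => by
      rw [pow_two]; exact Cfsg.Agent.CpAut.SmallP.McL.sq_inner α)
  exact srow_of_cert (by rw [hc]; norm_num) (by rw [hc]; norm_num) B (inn_of_odd hinn)
    ((McL.cert Spor.McL (fun _ h => h.1.1) (fun _ h => h)).congr e.symm)

theorem ru (K : Type u) [Group K] [Finite K] [IsSimpleGroup K] (h : Spor.IsoRu K) (B : SBox.{u} 5) : SRow 5 K := by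
  have hc : Nat.card K = 145926144000 := (Cfsg.Agent.BpSpor.Row.dat_ru h).card
  have hinn := (Cfsg.Agent.BpSpor.Row.dat_ru h).inn
  obtain ⟨e⟩ := h
  exact srow_of_cert (by rw [hc]; norm_num) (by rw [hc]; norm_num) B (inn_of_odd hinn)
    (Ru.cert.congr (e.trans RuLat.Main.equiv).symm)

theorem co2 (K : Type u) [Group K] [Finite K] [IsSimpleGroup K] (h : Spor.IsoCo2 K) (B : SBox.{u} 5) : SRow 5 K := by
  obtain ⟨e⟩ := h
  have hc : Nat.card K = 42305421312000 := by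
    rw [Nat.card_congr e.toEquiv, Schreier.CoTwoStab.card]
  refine srow_of_cert (by rw [hc]; norm_num) (by rw [hc]; norm_num) B (fun α _ => ?_)
    ((McL.cert Spor.Co2 (fun _ h => h.1) (fun _ h => ⟨h.1.1, h.2⟩)).congr e.symm)
  obtain ⟨g, hg⟩ := KFacts.CoTwo.Main.allInner_iso e α
  exact ⟨g, hg.symm⟩

theorem co3 (K : Type u) [Group K] [Finite K] [IsSimpleGroup K] (h : Spor.IsoCo3 K) (B : SBox.{u} 5) : SRow 5 K := by
  obtain ⟨e⟩ := h
  have hc : Nat.card K = 495766656000 := by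
    rw [Nat.card_congr (e.trans SporRec.Co3.Model.equivCo3.symm).toEquiv, SporRec.Co3.Chain.isCo3_G3.2]
  refine srow_of_cert (by rw [hc]; norm_num) (by rw [hc]; norm_num) B (fun α _ => ?_)
    ((McL.cert Spor.Co3 (fun _ h => h.1) (fun _ h => h.1)).congr e.symm)
  obtain ⟨g, hg⟩ := KFacts.Co3.Sheet.inner_of (e.trans SporRec.Co3.Model.equivCo3.symm).symm α
  exact ⟨g, hg.symm⟩

end Cfsg.Agent.H461.T5S.SRows
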