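import Cfsg.Agent.H461.T5S.Words
import Cfsg.Agent.H461.T5.Conway

/-!
# Certificates for subgroups of `Co0`: the letters are matrices coded as natural numbers (helper461)
-/

set_option autoImplicit false
set_option maxRecDepth 100000

namespace Cfsg.Agent.H461.T5S

open Subgroup Cfsg Cfsg.Agent.SporadicA Cfsg.Agent.SporadicStructure.Co0Matrix Cfsg.Agent.CoOneType.CoEval
open Cfsg.Agent.LThreeCo1.Ev Cfsg.Agent.H573.Spor.Co0

/-- the check of the equation `i` -/
def chkE (D : CD) (M : ℕ → List (List ℤ)) (i : ℕ) : Bool := eqB M (D.eqs.getD i ([], [])).1 (D.eqs.getD i ([], [])).2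

/-- the check of the inequations -/
def chkN (D : CD) (M : ℕ → List (List ℤ)) : Bool := D.nes.all fun w => neB' M w []

/-- **the certificate** for a subgroup of `Co0` containing the letters -/
theorem cert_of_le (D : CD) {e : ℕ → Co0} {M : ℕ → List (List ℤ)} (hM : ∀ i, Rep (e i) (M i)) (hnum : D.num = true)
    {n : ℕ} (hn : D.eqs.length = n) (hE : ∀ i < n, chkE D M i = true) (hN : chkN D M = true) (X : Subgroup (Equiv.Perm leechLattice)) (hX : X ≤ Co0)
    (hm : ∀ i, (e i).1 ∈ X) : Cert X := by
  have inj : Function.Injective (Subgroup.inclusion hX) := Subgroup.inclusion_injective hX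
  have key : ∀ w : List ℕ, Subgroup.inclusion hX (ev (fun i => (⟨_, hm i⟩ : X)) w) = (w.map e).prod := by
    intro w
    induction w with
    | nil => exact map_one _
    | cons i w ih =>
      have h1 : ev (fun i => (⟨_, hm i⟩ : X)) (i :: w) = ⟨_, hm i⟩ * ev (fun i => (⟨_, hm i⟩ : X)) w := by
        simp [ev]
      rw [h1, map_mul, ih, List.map_cons, List.prod_cons]
      rfl
  refine cert_of D hnum (fun i => (⟨_, hm i⟩ : X)) (fun q hq => inj ?_) (fun w hw h => ?_)
  · rw [key, key]
    obtain ⟨i, hi, rfl⟩ := List.mem_iff_getElem.1 hq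
    have h1 := hE i (by rw [← hn]; exact hi)
    rw [chkE, List.getD_eq_getElem?_getD, List.getElem?_eq_getElem hi, Option.getD_some] at h1
    exact eq_of_eqB hM h1
  · have h1 := ne_of_neB' hM (List.all_eq_true.1 hN w hw)
    apply h1
    rw [← key w, h, map_one]
    rfl

end Cfsg.Agent.H461.T5S
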