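import Cfsg.Agent.H461.T5S.Conway
import Cfsg.Agent.H461.T5.McL

/-!
# The certificate of strong pairs of elements of order 5 for `McL` and the groups between it and `Co0` (helper461)

The letters are `a`, `b`, `c` (helper573), `g`, `g⁻¹`; the words of the conjugating elements were found by computer.
-/

set_option autoImplicit false
set_option maxRecDepth 100000

namespace Cfsg.Agent.H461.T5S.McL

open Cfsg Cfsg.Agent.SporadicA Cfsg.Agent.SporadicStructure.Co0Matrix Cfsg.Agent.CoOneType.CoEval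
open Cfsg.Agent.H461.T5 Cfsg.Agent.H461.T5S

/-- the data -/
def D : CD where
  k := 2
  rp := fun
    | 0 => 0
    | _ => 1
  cl := fun
    | 0 => 0
    | _ => 1
  hw := fun
    | 2 => [3, 3, 3, 3, 2, 3, 3, 3, 1, 0, 4, 0, 4, 0]
    | 3 => [3, 3, 1, 1, 1, 1, 2, 3, 3, 0, 4, 2, 2, 1, 1, 3]
    | 4 => [4, 4, 4, 0, 3, 2, 4, 2, 2, 2, 2, 3, 1]
    | 5 => [4, 4, 4, 1, 1, 1, 1, 2, 0, 3, 0, 4, 2, 3, 1, 0]
    | 6 => [3, 2, 3, 0, 0, 0, 0, 2, 2, 4, 2, 2, 4, 1, 3, 3]
    | _ => []
  kw := fun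
    | 0 => [4, 1, 1, 1, 1, 2, 4, 2, 4, 4]
    | 1 => [4, 2, 2, 2, 2, 1, 3, 0, 0, 4, 1, 4, 4, 2, 4]
    | _ => []
  gw := fun
    | 0, 1 => [3]
    | _, _ => []
  zw := fun
    | 0, 1 => [2, 3, 0, 4]
    | _, _ => []
  nn := fun
    | 0, 1 => 11
    | _, _ => 1
  mm := fun
    | 0, 1 => 8
    | _, _ => 1

theorem hnum : D.num = true := by decide +kernel
theorem hlen : D.eqs.length = 18 := by decide +kernel
set_option maxHeartbeats 2000000 in
theorem hE : ∀ i < 18, chkE D H461.T5.McL.Ms i = true := by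
  intro i hi
  interval_cases i
  · decide +kernel
  · decide +kernel
  · decide +kernel
  · decide +kernel
  · decide +kernel
  · decide +kernel
  · decide +kernel
  · decide +kernel
  · decide +kernel
  · decide +kernel
  · decide +kernel
  · decide +kernel
  · decide +kernel
  · decide +kernel
  · decide +kernel
  · decide +kernel
  · decide +kernel
  · decide +kernel
theorem hN : chkN D H461.T5.McL.Ms = true := by decide +kernel

theorem memH : gH.1 ∈ Spor.McL := by
  have h : gH = gG⁻¹ := (inv_eq_of_mul_eq_one_right gh).symm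
  rw [h]
  exact inv_mem H461.T5.McL.memG

theorem mem : ∀ i : ℕ, (H461.T5.McL.e i).1 ∈ Spor.McL
  | 0 => H573.Spor.McLFive.memA
  | 1 => H573.Spor.McLFive.memB
  | 2 => H573.Spor.McLFive.memC
  | 3 => H461.T5.McL.memG
  | _ + 4 => memH

/-- **the certificate** for a subgroup of `Co₀` containing `McL` -/
theorem cert (X : Subgroup (Equiv.Perm leechLattice)) (hX : X ≤ Co0) (hXM : ∀ g ∈ Spor.McL, g ∈ X) : Cert X :=
  cert_of_le D H461.T5.McL.hM hnum hlen hE hN X hX fun i => hXM _ (mem i)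

end Cfsg.Agent.H461.T5S.McL
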