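import Cfsg.Agent.H461.T5S.Cert

/-!
# Certificates given by words in letters (helper461)

The letters 0, 1, 2 are `a`, `b`, `c`; the data `CD` contain the words of the conjugating elements; `Eqs D` are the
equations and `Nes D` the words different from 1 to be checked.
-/

set_option autoImplicit false

namespace Cfsg.Agent.H461.T5S

open Subgroup Cfsg.Agent.H461.T5

/-- the data of a certificate -/
structure CD where
  /-- number of classes -/
  k : ℕ
  /-- the index of the representative of a class in the list `c`, `a`, `b`, `a b`, ..., `a ^ 4 b` -/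
  rp : ℕ → ℕ
  /-- the class of the elements of the list -/
  cl : ℕ → ℕ
  /-- the words of the conjugating elements -/
  hw : ℕ → List ℕ
  /-- the words of elements conjugating the representatives to their squares -/
  kw : ℕ → List ℕ
  /-- pairs of classes: the conjugating element -/
  gw : ℕ → ℕ → List ℕ
  /-- pairs of classes: the product -/
  zw : ℕ → ℕ → List ℕ
  /-- pairs of classes: the order of the product -/
  nn : ℕ → ℕ → ℕ
  /-- pairs of classes: the order of the second product -/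
  mm : ℕ → ℕ → ℕ

/-- the words of the elements of the list -/
def wl : ℕ → List ℕ
  | 0 => [2]
  | 1 => [0]
  | t + 2 => List.replicate t 0 ++ [1]

/-- the power of a word -/
def wpow (w : List ℕ) (n : ℕ) : List ℕ := (List.replicate n w).flatten

/-- the word of the representative of a class -/
def CD.rw (D : CD) (i : ℕ) : List ℕ := wl (D.rp i)

/-- the numerical conditions -/
def CD.num (D : CD) : Bool :=
  ((List.range 7).all fun i => Nat.blt (D.cl i) D.k) && ((List.range D.k).all fun j => Nat.blt (D.rp j) 7) &&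
  (List.range D.k).all fun i => (List.range D.k).all fun j =>
    Nat.beq (Nat.gcd 5 (D.nn i j)) 1 && Nat.beq (Nat.gcd 5 (D.mm i j)) 1 && Nat.beq (Nat.gcd (D.nn i j) (D.mm i j)) 1

/-- the pairs `i < j` -/
def prs (k : ℕ) : List (ℕ × ℕ) := (List.range k).flatMap fun j => (List.range j).map fun i => (i, j)

theorem mem_prs {k i j : ℕ} (hij : i < j) (hj : j < k) : (i, j) ∈ prs k := by
  simp only [prs, List.mem_flatMap, List.mem_range, List.mem_map]
  exact ⟨j, hj, i, hij, rfl⟩

/-- the equations of the letters 0, 1, 2 -/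
def eqs0 : List (List ℕ × List ℕ) :=
  [([0, 0, 0, 0, 0], []), ([1, 1, 1, 1, 1], []), ([2, 2, 2, 2, 2], []), ([0, 2], [2, 0]), ([1, 2], [2, 1]), ([0, 1], [1, 0, 2])]

/-- the equations -/
def CD.eqs (D : CD) : List (List ℕ × List ℕ) :=
  eqs0 ++ ((List.range 7).map fun i => (D.hw i ++ wl i, D.rw (D.cl i) ++ D.hw i)) ++
  ((List.range D.k).map fun j => (D.kw j ++ D.rw j, D.rw j ++ (D.rw j ++ D.kw j))) ++
  ((prs D.k).map fun q => (D.rw q.1 ++ (D.gw q.1 q.2 ++ D.rw q.2), D.zw q.1 q.2 ++ D.gw q.1 q.2)) ++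
  ((prs D.k).map fun q => (wpow (D.zw q.1 q.2) (D.nn q.1 q.2), [])) ++
  ((prs D.k).map fun q => (wpow (D.rw q.1 ++ D.zw q.1 q.2) (D.mm q.1 q.2), []))

/-- the words different from 1 -/
def CD.nes (D : CD) : List (List ℕ) := [2] :: (prs D.k).map fun q => D.zw q.1 q.2

section

variable {G : Type*} [Group G]

/-- the value of a word -/
def ev (e : ℕ → G) (w : List ℕ) : G := (w.map e).prod

theorem ev_append (e : ℕ → G) (w v : List ℕ) : ev e (w ++ v) = ev e w * ev e v := by
  simp [ev]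

theorem ev_nil (e : ℕ → G) : ev e [] = 1 := rfl

theorem ev_wpow (e : ℕ → G) (w : List ℕ) (n : ℕ) : ev e (wpow w n) = ev e w ^ n := by
  induction n with
  | zero => rw [pow_zero]; rfl
  | succ n ih => rw [wpow, List.replicate_succ, List.flatten_cons, ev_append, pow_succ', ← ih, wpow]

theorem ev_wl (e : ℕ → G) {r : G} (hr : Rp 5 (e 0) (e 1) (e 2) r) : ∃ i < 7, r = ev e (wl i) := by
  rcases hr with rfl | rfl | ⟨t, ht, rfl⟩
  · exact ⟨0, by norm_num, by simp [ev, wl]⟩
  · exact ⟨1, by norm_num, by simp [ev, wl]⟩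
  · exact ⟨t + 2, by omega, by simp [ev, wl]⟩

theorem rp_pow {a b c : G} (ha : a ^ 5 = 1) (hb : b ^ 5 = 1) (hc : c ^ 5 = 1) (hac : a * c = c * a)
    (hbc : b * c = c * b) (hab : a * b = b * a * c) {r : G} (hr : Rp 5 a b c r) : r ^ 5 = 1 := by
  rcases hr with rfl | rfl | ⟨t, ht, rfl⟩
  · exact hc
  · exact ha
  · have h := pow_mul_pow hbc hac hab t 1
    rw [pow_one] at h
    have h2 := nf_pow_p (p := 5) (by norm_num) (by norm_num) ha hb hc hbc hac hab 1 t (t * 1)
    rw [pow_one] at h2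
    rw [h, h2]

theorem rp_wl (e : ℕ → G) {i : ℕ} (hi : i < 7) : Rp 5 (e 0) (e 1) (e 2) (ev e (wl i)) := by
  rcases i with _ | _ | t
  · exact Or.inl (by simp [ev, wl])
  · exact Or.inr (Or.inl (by simp [ev, wl]))
  · exact Or.inr (Or.inr ⟨t, by omega, by simp [ev, wl]⟩)

/-- **the certificate from the equations of the words** -/
theorem cert_of (D : CD) (hnum : D.num = true) (e : ℕ → G) (he : ∀ q ∈ D.eqs, ev e q.1 = ev e q.2)
    (hn : ∀ w ∈ D.nes, ev e w ≠ 1) : Cert G := by
  simp only [CD.num, Bool.and_eq_true, List.all_eq_true, List.mem_range, Nat.blt_eq, Nat.beq_eq] at hnum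
  obtain ⟨⟨hcl, hrp⟩, hco⟩ := hnum
  simp only [CD.eqs, eqs0, List.mem_append, List.mem_cons, List.mem_map, List.mem_range, List.not_mem_nil, or_false] at he
  simp only [CD.nes, List.mem_cons, List.mem_map] at hn
  have e0 := he ([0, 0, 0, 0, 0], []) (by simp)
  have e1 := he ([1, 1, 1, 1, 1], []) (by simp)
  have e2 := he ([2, 2, 2, 2, 2], []) (by simp)
  have e3 := he ([0, 2], [2, 0]) (by simp)
  have e4 := he ([1, 2], [2, 1]) (by simp)
  have e5 := he ([0, 1], [1, 0, 2]) (by simp)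
  have e6 := hn [2] (Or.inl rfl)
  simp only [ev, List.map_cons, List.map_nil, List.prod_cons, List.prod_nil, mul_one] at e0 e1 e2 e3 e4 e5 e6
  have f0 : e 0 ^ 5 = 1 := by rw [← e0]; simp only [pow_succ, pow_zero, one_mul, mul_assoc]
  have f1 : e 1 ^ 5 = 1 := by rw [← e1]; simp only [pow_succ, pow_zero, one_mul, mul_assoc]
  have f2 : e 2 ^ 5 = 1 := by rw [← e2]; simp only [pow_succ, pow_zero, one_mul, mul_assoc]
  have f3 : e 0 * e 1 = e 1 * e 0 * e 2 := by rw [e5, mul_assoc]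
  refine ⟨e 0, e 1, e 2, fun i => ev e (D.rw i), D.k, f0, f1, f2, e6, e3, e4, f3, ?_, ?_, ?_, ?_⟩
  · intro r hr
    obtain ⟨i, hi, rfl⟩ := ev_wl e hr
    refine ⟨D.cl i, hcl i hi, ev e (D.hw i), 1, ?_⟩
    have h1 := he (D.hw i ++ wl i, D.rw (D.cl i) ++ D.hw i) (Or.inl (Or.inl (Or.inl (Or.inl (Or.inr ⟨i, hi, rfl⟩)))))
    rw [ev_append, ev_append] at h1
    rw [pow_one, h1]
    group
  · intro i hi
    exact rp_pow f0 f1 f2 e3 e4 f3 (rp_wl e (hrp i hi))
  · intro i hi
    refine ⟨ev e (D.kw i), ?_⟩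
    have h1 := he (D.kw i ++ D.rw i, D.rw i ++ (D.rw i ++ D.kw i)) (Or.inl (Or.inl (Or.inl (Or.inr ⟨i, hi, rfl⟩))))
    simp only [ev_append] at h1
    rw [h1, pow_two]
    group
  · intro i j hij hj
    have hm := mem_prs hij hj
    have h1 := he (D.rw i ++ (D.gw i j ++ D.rw j), D.zw i j ++ D.gw i j) (Or.inl (Or.inl (Or.inr ⟨(i, j), hm, rfl⟩)))
    have h2 := he (wpow (D.zw i j) (D.nn i j), []) (Or.inl (Or.inr ⟨(i, j), hm, rfl⟩))
    have h3 := he (wpow (D.rw i ++ D.zw i j) (D.mm i j), []) (Or.inr ⟨(i, j), hm, rfl⟩)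
    have h4 := hn (D.zw i j) (Or.inr ⟨(i, j), hm, rfl⟩)
    simp only [ev_append, ev_wpow, ev_nil] at h1 h2 h3
    obtain ⟨⟨c1, c2⟩, c3⟩ := hco i (hij.trans hj) j hj
    exact ⟨ev e (D.gw i j), ev e (D.zw i j), D.nn i j, D.mm i j, by rw [mul_assoc, h1], h4, h2, h3, c1, c2, c3⟩

end

end Cfsg.Agent.H461.T5S
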